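import Groth.Agent.Lefpen.H703.NondegQuadCrit
import Groth.Agent.Lefpen.H703.Assembly

/-!
# Smooth hypersurfaces with prescribed first order part along a line

For `A : Fin (m+2) → ℕ` with `A 0 = 0`, `A (last) = d - 1` and units `u i` there are `c i` such that
`∑ u_i x_{i+2} x_0^{A_i} x_1^{d-1-A_i} + ∑ c_i x_{i+2}^d` defines a smooth hypersurface in `P^{m+3}`
(algebraically closed field of characteristic zero).
-/

set_option autoImplicit false
universe u

namespace K226.LineSm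

open CategoryTheory MvPolynomial LefPen Groth.Agent.Lefpen.H703.NondegOpen

variable {k : Type u} [Field k] {m d : ℕ}

/-- `∑ (u_i x_0^{A_i} x_1^{d-1-A_i} x_{i+2} + c_i x_{i+2}^d)`. -/
noncomputable def G (d : ℕ) (A : Fin (m + 2) → ℕ) (u c : Fin (m + 2) → k) : MvPolynomial (Fin (m + 3 + 1)) k :=
  ∑ i : Fin (m + 2), (C (u i) * (X 0 ^ A i * X 1 ^ (d - 1 - A i)) * X i.succ.succ + C (c i) * X i.succ.succ ^ d)

theorem isHomogeneous_G (hd : 1 ≤ d) (A : Fin (m + 2) → ℕ) (hA : ∀ i, A i ≤ d - 1) (u c : Fin (m + 2) → k) :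
    (G d A u c).IsHomogeneous d := by
  refine IsHomogeneous.sum _ _ _ fun i _ => ?_
  refine IsHomogeneous.add ?_ ?_
  · have h1 := ((isHomogeneous_C (Fin (m + 3 + 1)) (u i)).mul
      (((isHomogeneous_X k (0 : Fin (m + 3 + 1))).pow (A i)).mul
        ((isHomogeneous_X k (1 : Fin (m + 3 + 1))).pow (d - 1 - A i)))).mul (isHomogeneous_X k i.succ.succ)
    have h2 : 0 + (1 * A i + 1 * (d - 1 - A i)) + 1 = d := by have := hA i; omega
    rwa [h2] at h1
  · have h1 := (isHomogeneous_C (Fin (m + 3 + 1)) (c i)).mul ((isHomogeneous_X k i.succ.succ).pow d)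
    have h2 : 0 + 1 * d = d := by omega
    rwa [h2] at h1

theorem eval_G (A : Fin (m + 2) → ℕ) (u c : Fin (m + 2) → k) (v : Fin (m + 3 + 1) → k) :
    eval v (G d A u c) = ∑ i : Fin (m + 2), (u i * (v 0 ^ A i * v 1 ^ (d - 1 - A i)) * v i.succ.succ +
      c i * v i.succ.succ ^ d) := by
  simp [G, map_sum]

theorem eval_pderiv_succ (A : Fin (m + 2) → ℕ) (u c : Fin (m + 2) → k) (v : Fin (m + 3 + 1) → k)
    (j : Fin (m + 2)) :
    eval v (pderiv j.succ.succ (G d A u c)) = u j * (v 0 ^ A j * v 1 ^ (d - 1 - A j)) +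
      c j * (d * v j.succ.succ ^ (d - 1)) := by
  classical
  rw [G, map_sum, map_sum]
  have h0 : (0 : Fin (m + 3 + 1)) ≠ j.succ.succ := (Fin.succ_ne_zero _).symm
  have h1 : (1 : Fin (m + 3 + 1)) ≠ j.succ.succ := by
    rw [← Fin.succ_zero_eq_one]
    exact fun h => (Fin.succ_ne_zero j) (Fin.succ_injective _ h).symm
  rw [Finset.sum_eq_single j]
  · simp [Derivation.leibniz, Derivation.leibniz_pow, pderiv_X_of_ne h0, pderiv_X_of_ne h1]
  · intro i _ hi
    have h2 : i.succ.succ ≠ j.succ.succ := fun h => hi (Fin.succ_injective _ (Fin.succ_injective _ h))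
    simp [Derivation.leibniz, Derivation.leibniz_pow, pderiv_X_of_ne h0, pderiv_X_of_ne h1, pderiv_X_of_ne h2]
  · simp

theorem eval_pderiv_zero (A : Fin (m + 2) → ℕ) (u c : Fin (m + 2) → k) (v : Fin (m + 3 + 1) → k) :
    eval v (pderiv 0 (G d A u c)) = ∑ i : Fin (m + 2),
      u i * (A i * v 0 ^ (A i - 1) * v 1 ^ (d - 1 - A i)) * v i.succ.succ := by
  classical
  rw [G, map_sum, map_sum]
  refine Finset.sum_congr rfl fun i _ => ?_
  have h1 : (1 : Fin (m + 3 + 1)) ≠ 0 := by simp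
  have h2 : i.succ.succ ≠ (0 : Fin (m + 3 + 1)) := Fin.succ_ne_zero _
  simp [Derivation.leibniz, Derivation.leibniz_pow, pderiv_X_of_ne h1, pderiv_X_of_ne h2]
  ring

theorem eval_pderiv_one (A : Fin (m + 2) → ℕ) (u c : Fin (m + 2) → k) (v : Fin (m + 3 + 1) → k) :
    eval v (pderiv 1 (G d A u c)) = ∑ i : Fin (m + 2),
      u i * (v 0 ^ A i * ((d - 1 - A i : ℕ) * v 1 ^ (d - 1 - A i - 1))) * v i.succ.succ := by
  classical
  rw [G, map_sum, map_sum]
  refine Finset.sum_congr rfl fun i _ => ?_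
  have h1 : (0 : Fin (m + 3 + 1)) ≠ 1 := by simp
  have h2 : i.succ.succ ≠ (1 : Fin (m + 3 + 1)) := by
    rw [← Fin.succ_zero_eq_one]
    exact fun h => (Fin.succ_ne_zero i) (Fin.succ_injective _ h)
  simp [Derivation.leibniz, Derivation.leibniz_pow, pderiv_X_of_ne h1, pderiv_X_of_ne h2]
  ring

/-- Rescaling the variables `x_{i+2}`. -/
theorem singFree_scale (hd : 1 ≤ d) (A : Fin (m + 2) → ℕ) (u c μ : Fin (m + 2) → k) (hμ : ∀ i, μ i ≠ 0)
    (h : SingFree (G d A u c)) : SingFree (G d A (fun i => u i * μ i) (fun i => c i * μ i ^ d)) := by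
  intro v hv
  let v' : Fin (m + 3 + 1) → k := Fin.cons (v 0) (Fin.cons (v 1) fun i => μ i * v i.succ.succ)
  have h0 : v' 0 = v 0 := rfl
  have h1 : v' 1 = v 1 := rfl
  have h2 : ∀ i : Fin (m + 2), v' i.succ.succ = μ i * v i.succ.succ := fun i => rfl
  have hv' : v' ≠ 0 := by
    intro h'
    apply hv
    funext l
    refine Fin.cases ?_ (fun l => Fin.cases ?_ (fun i => ?_) l) l
    · rw [← h0, h']
    · change v 1 = 0
      rw [← h1, h', Pi.zero_apply]
    · have h3 := h2 i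
      rw [h'] at h3
      exact (mul_eq_zero.1 h3.symm).resolve_left (hμ i)
  rcases h v' hv' with h3 | ⟨l, h3⟩
  · left
    rw [eval_G] at h3 ⊢
    refine fun h4 => h3 ?_
    rw [← h4]
    refine Finset.sum_congr rfl fun i _ => ?_
    rw [h0, h1, h2, mul_pow]
    ring
  · right
    refine ⟨l, ?_⟩
    revert h3
    refine Fin.cases ?_ (fun l => Fin.cases ?_ (fun j => ?_) l) l
    · rw [eval_pderiv_zero, eval_pderiv_zero]
      refine fun h3 h4 => h3 ?_
      rw [← h4]
      refine Finset.sum_congr rfl fun i _ => ?_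
      rw [h0, h1, h2]
      ring
    · rw [Fin.succ_zero_eq_one, eval_pderiv_one, eval_pderiv_one]
      refine fun h3 h4 => h3 ?_
      rw [← h4]
      refine Finset.sum_congr rfl fun i _ => ?_
      rw [h0, h1, h2]
      ring
    · rw [eval_pderiv_succ, eval_pderiv_succ]
      refine fun h3 h4 => h3 ?_
      refine (mul_eq_zero.1 ?_).resolve_left (hμ j)
      rw [← h4, h0, h1, h2]
      obtain ⟨d, rfl⟩ : ∃ e, d = e + 1 := ⟨d - 1, by omega⟩
      rw [Nat.add_sub_cancel]
      ring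

/-- Only the first and the last term. -/
theorem singFree_ends [CharZero k] (hd : 2 ≤ d) (A : Fin (m + 2) → ℕ) (hA0 : A 0 = 0) (hAl : A (Fin.last _) = d - 1)
    (u : Fin (m + 2) → k) (hu : ∀ i, i = 0 ∨ i = Fin.last _ → u i ≠ 0)
    (hu' : ∀ i, ¬ (i = 0 ∨ i = Fin.last _) → u i = 0) :
    SingFree (G d A u fun _ => 1) := by
  classical
  intro v hv
  right
  by_contra hcon
  push Not at hcon
  have hdk : (d : k) ≠ 0 := by exact_mod_cast (show d ≠ 0 by omega)
  have hdk' : ((d - 1 : ℕ) : k) ≠ 0 := by exact_mod_cast (show d - 1 ≠ 0 by omega)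
  have hne : (Fin.last (m + 1) : Fin (m + 2)) ≠ 0 := (Fin.last_pos).ne'
  -- the middle coordinates vanish
  have hmid : ∀ i : Fin (m + 2), ¬ (i = 0 ∨ i = Fin.last _) → v i.succ.succ = 0 := by
    intro i hi
    have h1 := hcon i.succ.succ
    rw [eval_pderiv_succ, hu' i hi, zero_mul, zero_add, one_mul] at h1
    exact pow_eq_zero_iff (by omega : d - 1 ≠ 0) |>.1 ((mul_eq_zero.1 h1).resolve_left hdk)
  have hy0 : u 0 * v 1 ^ (d - 1) + d * v (0 : Fin (m + 2)).succ.succ ^ (d - 1) = 0 := by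
    have h1 := hcon (0 : Fin (m + 2)).succ.succ
    rw [eval_pderiv_succ, hA0, pow_zero, one_mul, Nat.sub_zero, one_mul] at h1
    exact h1
  have hyl : u (Fin.last _) * v 0 ^ (d - 1) + d * v (Fin.last (m + 1)).succ.succ ^ (d - 1) = 0 := by
    have h1 := hcon (Fin.last (m + 1)).succ.succ
    rw [eval_pderiv_succ, hAl, Nat.sub_self, pow_zero, mul_one, one_mul] at h1
    exact h1
  have hz1 : u 0 * (((d - 1 : ℕ) : k) * v 1 ^ (d - 1 - 1)) * v (0 : Fin (m + 2)).succ.succ = 0 := by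
    have h1 := hcon 1
    rw [eval_pderiv_one, Finset.sum_eq_single 0] at h1
    · rw [hA0, pow_zero, one_mul, Nat.sub_zero] at h1
      exact h1
    · intro i _ hi
      by_cases hil : i = Fin.last _
      · subst hil
        rw [hAl, Nat.sub_self, Nat.cast_zero, zero_mul, mul_zero, mul_zero, zero_mul]
      · rw [hu' i (by tauto), zero_mul, zero_mul]
    · simp
  have hz0 : u (Fin.last _) * (((d - 1 : ℕ) : k) * v 0 ^ (d - 1 - 1)) * v (Fin.last (m + 1)).succ.succ = 0 := by
    have h1 := hcon 0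
    rw [eval_pderiv_zero, Finset.sum_eq_single (Fin.last (m + 1))] at h1
    · rw [hAl, Nat.sub_self, pow_zero, mul_one] at h1
      exact h1
    · intro i _ hi
      by_cases hil : i = 0
      · subst hil
        rw [hA0, Nat.cast_zero, zero_mul, zero_mul, mul_zero, zero_mul]
      · rw [hu' i (by tauto), zero_mul, zero_mul]
    · simp
  -- elementary step
  have key : ∀ (a x y : k), a ≠ 0 → a * x ^ (d - 1) + d * y ^ (d - 1) = 0 →
      a * (((d - 1 : ℕ) : k) * x ^ (d - 1 - 1)) * y = 0 → x = 0 ∧ y = 0 := by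
    intro a x y ha h1 h2
    have h3 : x = 0 ∨ y = 0 := by
      rcases mul_eq_zero.1 h2 with h4 | h4
      · left
        exact eq_zero_of_pow_eq_zero ((mul_eq_zero.1 ((mul_eq_zero.1 h4).resolve_left ha)).resolve_left hdk')
      · exact Or.inr h4
    have hd1 : d - 1 ≠ 0 := by omega
    rcases h3 with h4 | h4
    · refine ⟨h4, ?_⟩
      rw [h4, zero_pow hd1, mul_zero, zero_add] at h1
      exact (pow_eq_zero_iff hd1).1 ((mul_eq_zero.1 h1).resolve_left hdk)
    · refine ⟨?_, h4⟩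
      rw [h4, zero_pow hd1, mul_zero, add_zero] at h1
      exact (pow_eq_zero_iff hd1).1 ((mul_eq_zero.1 h1).resolve_left ha)
  obtain ⟨k1, k2⟩ := key _ _ _ (hu 0 (Or.inl rfl)) hy0 hz1
  obtain ⟨k3, k4⟩ := key _ _ _ (hu _ (Or.inr rfl)) hyl hz0
  apply hv
  funext l
  refine Fin.cases k3 (fun l => Fin.cases k1 (fun i => ?_) l) l
  by_cases hi : i = 0 ∨ i = Fin.last _
  · rcases hi with rfl | rfl
    · exact k2
    · exact k4
  · exact hmid i hi

/-- **Existence.** -/
theorem exists_singFree [IsAlgClosed k] [CharZero k] (hd : 1 ≤ d) (A : Fin (m + 2) → ℕ) (hA : ∀ i, A i ≤ d - 1)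
    (hA0 : A 0 = 0) (hAl : A (Fin.last _) = d - 1) (u : Fin (m + 2) → k) (hu : ∀ i, u i ≠ 0) :
    ∃ c : Fin (m + 2) → k, (d = 1 → ∀ i, c i = 0) ∧ SingFree (G d A u c) := by
  classical
  obtain hd1 | hd2 : d = 1 ∨ 2 ≤ d := by omega
  · refine ⟨fun _ => 0, fun _ _ => rfl, fun v _ => Or.inr ⟨(0 : Fin (m + 2)).succ.succ, ?_⟩⟩
    rw [eval_pderiv_succ, hA0, zero_mul, add_zero, pow_zero, one_mul]
    subst hd1
    simpa using hu 0
  · let e : Fin (m + 2) → k := fun i => if i = 0 ∨ i = Fin.last _ then u i else 0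
    let e' : Fin (m + 2) → k := fun i => if i = 0 ∨ i = Fin.last _ then 0 else u i
    let F₀ : Form (m + 3) k d := ⟨G d A e fun _ => 1, isHomogeneous_G hd A hA _ _⟩
    let F₁ : Form (m + 3) k d := ⟨G d A e' fun _ => 0, isHomogeneous_G hd A hA _ _⟩
    have h0 : SingFree F₀.1 := by
      refine singFree_ends hd2 A hA0 hAl e (fun i hi => ?_) fun i hi => ?_
      · simp only [e, if_pos hi]; exact hu i
      · simp only [e, if_neg hi]
    have hO := isZOpen_singFree (k := k) (m + 3) d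
    have : Infinite k := IsAlgClosed.instInfinite
    have h1 := (Groth.Agent.Lefpen.H703.Assembly.finite_compl_line hO F₀ F₁).2 ⟨0, by
      rw [zero_smul, add_zero]; exact h0⟩
    obtain ⟨c, hc⟩ := (h1.insert 0).exists_notMem
    rw [Set.mem_insert_iff, not_or] at hc
    obtain ⟨hc0, hc1⟩ := hc
    have h2 : SingFree (F₀ + c • F₁).1 := by
      by_contra hcon
      exact hc1 hcon
    let μ : Fin (m + 2) → k := fun i => if i = 0 ∨ i = Fin.last _ then 1 else c⁻¹
    have hμ : ∀ i, μ i ≠ 0 := by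
      intro i
      simp only [μ]
      split_ifs
      · exact one_ne_zero
      · exact inv_ne_zero hc0
    have h3 : (F₀ + c • F₁).1 = G d A (fun i => e i + c * e' i) fun _ => 1 := by
      change G d A e (fun _ => 1) + c • G d A e' (fun _ => 0) = _
      rw [G, G, G, Finset.smul_sum, ← Finset.sum_add_distrib]
      refine Finset.sum_congr rfl fun i _ => ?_
      rw [smul_eq_C_mul]
      simp only [map_add, map_mul, map_zero, map_one]
      ring
    rw [h3] at h2
    have h4 := singFree_scale hd A _ _ μ hμ h2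
    refine ⟨fun i => 1 * μ i ^ d, fun h => by omega, ?_⟩
    convert h4 using 2
    funext i
    simp only [e, e', μ]
    split_ifs
    · ring
    · field_simp
      ring

theorem ne_zero (A : Fin (m + 2) → ℕ) (hA0 : A 0 = 0) (u c : Fin (m + 2) → k) (hu : u 0 ≠ 0)
    (hc : d = 1 → c 0 = 0) : G d A u c ≠ 0 := by
  intro h
  have h1 := eval_pderiv_succ (d := d) A u c (Fin.cons 0 fun _ => (1 : k) ) 0
  have h2 := eval_pderiv_succ (d := d) A u c (Fin.cons 0 (Fin.cons 1 fun _ => (0 : k)) ) 0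
  rw [h, map_zero, map_zero, hA0, pow_zero, one_mul] at h2
  change 0 = u 0 * 1 ^ (d - 1 - 0) + c 0 * (d * 0 ^ (d - 1)) at h2
  by_cases hd : d - 1 = 0
  · by_cases hd1 : d = 1
    · rw [hc hd1, zero_mul, add_zero, one_pow, mul_one] at h2
      exact hu h2.symm
    · have : d = 0 := by omega
      subst this
      rw [Nat.cast_zero, zero_mul, mul_zero, add_zero, one_pow, mul_one] at h2
      exact hu h2.symm
  · rw [zero_pow hd, mul_zero, mul_zero, add_zero, one_pow, mul_one] at h2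
    exact hu h2.symm

/-- the form -/
noncomputable def form (hd : 1 ≤ d) (A : Fin (m + 2) → ℕ) (hA : ∀ i, A i ≤ d - 1) (u c : Fin (m + 2) → k) :
    Form (m + 3) k d :=
  ⟨G d A u c, isHomogeneous_G hd A hA u c⟩

/-- **Existence of a smooth hypersurface with given first order part along the line `x_2 = ... = x_{m+3} = 0`.** -/
theorem exists_smooth [IsAlgClosed k] [CharZero k] (hd : 1 ≤ d) (A : Fin (m + 2) → ℕ) (hA : ∀ i, A i ≤ d - 1)
    (hA0 : A 0 = 0) (hAl : A (Fin.last _) = d - 1) (u : Fin (m + 2) → k) (hu : ∀ i, u i ≠ 0) :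
    ∃ c : Fin (m + 2) → k, (d = 1 → ∀ i, c i = 0) ∧ (form hd A hA u c).1 ≠ 0 ∧
      AlgebraicGeometry.Smooth ((hypIdeal (form hd A hA u c)).subschemeι ≫ CohB1.ProjSpace.toSpec (m + 3) k) := by
  obtain ⟨c, hc, h⟩ := exists_singFree hd A hA hA0 hAl u hu
  have h0 := ne_zero A hA0 u c (hu 0) fun h => hc h 0
  exact ⟨c, hc, h0, (Groth.Agent.Lefpen.H703.NondegQuadCrit.smooth_hyp_iff (by omega) _ h0).2 h⟩

end K226.LineSm
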